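import Cfsg.Agent.Lib.Characterizations.NseAlt.Spectrum

/-!
The numbers of elements of each order in the alternating groups of degree 4, 5, 6.
-/

set_option autoImplicit false
set_option maxRecDepth 100000
set_option maxHeartbeats 2000000

namespace CfsgLib.Characterizations.NseAlt

open Set

/-- The image of the counting function, computed from a table of orders. -/
theorem image_eq_of_table {W : Type} [Group W] [Fintype W] [DecidableEq W] (K : List (ℕ × ℕ))
    (hK : ∀ e ∈ K, 0 < e.1 ∧ (Finset.univ.filter fun g : W => g ^ e.1 = 1 ∧ ∀ j < e.1, 0 < j → g ^ j ≠ 1).card = e.2 ∧ 0 < e.2)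
    (hcov : ∀ g : W, ∃ e ∈ K, g ^ e.1 = 1 ∧ ∀ j < e.1, 0 < j → g ^ j ≠ 1) :
    ((fun m : ℕ => Nat.card {g : W // orderOf g = m}) '' Set.range (orderOf : W → ℕ)) =
      {c | c ∈ K.map Prod.snd} := by
  have hcount : ∀ e ∈ K, Nat.card {g : W // orderOf g = e.1} = e.2 := fun e he => by
    obtain ⟨h0, h1, -⟩ := hK e he
    rw [← h1, Nat.card_eq_fintype_card, Fintype.card_subtype]
    exact congrArg Finset.card (Finset.filter_congr fun g _ => orderOf_eq_iff h0)
  ext c
  simp only [mem_image, mem_range, mem_setOf_eq, List.mem_map]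
  constructor
  · rintro ⟨m, ⟨g, rfl⟩, rfl⟩
    obtain ⟨e, he, hg⟩ := hcov g
    exact ⟨e, he, by rw [(orderOf_eq_iff (hK e he).1).2 hg, hcount e he]⟩
  · rintro ⟨e, he, rfl⟩
    obtain ⟨-, -, hpos⟩ := hK e he
    rw [← hcount e he] at hpos
    obtain ⟨⟨g, hg⟩⟩ := (Nat.card_pos_iff.1 hpos).1
    exact ⟨e.1, ⟨g, hg⟩, hcount e he⟩

theorem image_alt_four :
    ((fun m : ℕ => Nat.card {g : ↥(alternatingGroup (Fin 4)) // orderOf g = m}) '' Set.range (orderOf : ↥(alternatingGroup (Fin 4)) → ℕ)) =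
      {c | c ∈ 1 :: 3 :: [8]} :=
  image_eq_of_table [(1, 1), (2, 3), (3, 8)] (by decide +kernel) (by decide +kernel)

theorem image_alt_five :
    ((fun m : ℕ => Nat.card {g : ↥(alternatingGroup (Fin 5)) // orderOf g = m}) '' Set.range (orderOf : ↥(alternatingGroup (Fin 5)) → ℕ)) =
      {c | c ∈ 1 :: 15 :: [20, 24]} :=
  image_eq_of_table [(1, 1), (2, 15), (3, 20), (5, 24)] (by decide +kernel) (by decide +kernel)

theorem image_alt_six :
    ((fun m : ℕ => Nat.card {g : ↥(alternatingGroup (Fin 6)) // orderOf g = m}) '' Set.range (orderOf : ↥(alternatingGroup (Fin 6)) → ℕ)) =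
      {c | c ∈ 1 :: 45 :: [80, 90, 144]} :=
  image_eq_of_table [(1, 1), (2, 45), (3, 80), (4, 90), (5, 144)] (by decide +kernel) (by decide +kernel)

end CfsgLib.Characterizations.NseAlt
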