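import Cfsg.Agent.Lib.Characterizations.NseAlt.Recognition
import Cfsg.Agent.Lib.Characterizations.NseAlt.AltCounts
import Cfsg.Agent.Lib.Sporadic.SimpleIso360
import Cfsg.Agent.S0494

/-!
The alternating groups of degree 4, 5, 6 are determined by their numbers of elements of each order.
-/

set_option autoImplicit false

universe u

namespace CfsgLib.Characterizations.NseAlt

variable {G : Type u} [Group G] [Finite G]

theorem hyp_of_image {cs : List ℕ} {inv : ℕ}
    (h : ((fun m : ℕ => Nat.card {g : G // orderOf g = m}) '' Set.range (orderOf : G → ℕ)) =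
      {c | c ∈ 1 :: inv :: cs}) (h1 : inv % 2 = 1) (h2 : inv ≠ 1) : Hyp G cs inv where
  mem m hm := by
    obtain ⟨g, rfl⟩ := hm
    have : count G (orderOf g) ∈ ((fun m : ℕ => Nat.card {g : G // orderOf g = m}) '' Set.range (orderOf : G → ℕ)) :=
      ⟨orderOf g, ⟨g, rfl⟩, rfl⟩
    rwa [h] at this
  inv_mem := by
    have : inv ∈ ((fun m : ℕ => Nat.card {g : G // orderOf g = m}) '' Set.range (orderOf : G → ℕ)) := by
      rw [h]; simp
    obtain ⟨m, hm, e⟩ := this
    exact ⟨m, hm, e⟩
  cs_mem c hc := by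
    have : c ∈ ((fun m : ℕ => Nat.card {g : G // orderOf g = m}) '' Set.range (orderOf : G → ℕ)) := by
      rw [h]; exact List.mem_cons_of_mem _ (List.mem_cons_of_mem _ hc)
    obtain ⟨m, hm, e⟩ := this
    exact ⟨m, hm, e⟩
  odd_inv := h1
  inv_ne := h2

theorem equiv_four (h : Hyp G [8] 3) : Nonempty (G ≃* ↥(alternatingGroup (Fin 4))) := by
  obtain ⟨L0, hnd, hall, hs⟩ := h.a4_acc
  refine equiv_alt_four (by rw [card_of_acc hnd hall hs]; rfl) (fun g => ?_)
    (count_of_acc hs (e := (3, 8)) (by decide))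
  exact (by decide : ∀ m ∈ ([(3, 8), (2, 3), (1, 1)] : List (ℕ × ℕ)).map Prod.fst, m ≤ 3) _
    (order_mem_of_acc hall hs g)

theorem equiv_five (h : Hyp G [20, 24] 15) : Nonempty (G ≃* ↥(alternatingGroup (Fin 5))) := by
  obtain ⟨L0, hnd, hall, hs⟩ := h.a5_acc
  have hG : Nat.card G = 60 := by rw [card_of_acc hnd hall hs]; rfl
  haveI : Nontrivial G := Finite.one_lt_card_iff_nontrivial.1 (by omega)
  haveI : IsSimpleGroup G := isSimpleGroup_of_counts hG
    (fun g => (by decide : ∀ m ∈ ([(5, 24), (3, 20), (2, 15), (1, 1)] : List (ℕ × ℕ)).map Prod.fst, m ≤ 5) _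
      (order_mem_of_acc hall hs g))
    (count_of_acc hs (e := (3, 20)) (by decide)) (count_of_acc hs (e := (5, 24)) (by decide))
    (fun d hd h5 h1 hpp => by
      have key : ∀ d ∈ (60 : ℕ).divisors, ¬ 5 ∣ d → d ≠ 1 → d % 5 = 1 → d = 6 := by decide +kernel
      intro hmod
      have := key d (Nat.mem_divisors.2 ⟨hd, by norm_num⟩) h5 h1 hmod
      subst this
      exact (by decide +kernel : ¬ IsPrimePow 6) hpp)
    (by norm_num) (by decide)
  exact Cfsg.Agent.S0494.result hG

theorem equiv_six (h : Hyp G [80, 90, 144] 45) : Nonempty (G ≃* ↥(alternatingGroup (Fin 6))) := by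
  obtain ⟨L0, hnd, hall, hs⟩ := h.a6_acc
  have hG : Nat.card G = 360 := by rw [card_of_acc hnd hall hs]; rfl
  haveI : Nontrivial G := Finite.one_lt_card_iff_nontrivial.1 (by omega)
  haveI : IsSimpleGroup G := isSimpleGroup_of_counts hG
    (fun g => (by decide : ∀ m ∈ ([(5, 144), (4, 90), (3, 80), (2, 45), (1, 1)] : List (ℕ × ℕ)).map Prod.fst, m ≤ 5) _
      (order_mem_of_acc hall hs g))
    (count_of_acc hs (e := (3, 80)) (by decide)) (count_of_acc hs (e := (5, 144)) (by decide))
    (fun d hd h5 h1 hpp => by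
      have key : ∀ d ∈ (360 : ℕ).divisors, ¬ 5 ∣ d → d ≠ 1 → d % 5 = 1 → d = 6 ∨ d = 36 := by decide +kernel
      intro hmod
      rcases key d (Nat.mem_divisors.2 ⟨hd, by norm_num⟩) h5 h1 hmod with rfl | rfl
      · exact (by decide +kernel : ¬ IsPrimePow 6) hpp
      · exact (by decide +kernel : ¬ IsPrimePow 36) hpp)
    (by norm_num) (by decide)
  exact CfsgLib.Sporadic.SimpleIso360.equiv_alternating hG

end CfsgLib.Characterizations.NseAlt
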