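import Cfsg.Agent.Lib.Characterizations.NseAlt.Search

/-!
Recognition of the alternating groups of degree 4, 5, 6 from the numbers of elements of each order.
-/

set_option autoImplicit false

universe u

namespace CfsgLib.Characterizations.NseAlt

variable {G : Type u} [Group G] [Finite G] {sol : List (ℕ × ℕ)} {L0 : List ℕ}

theorem count_of_acc (hs : acc G L0 = sol) {e : ℕ × ℕ} (he : e ∈ sol) : count G e.1 = e.2 :=
  (mem_acc.1 (hs ▸ he)).2.2.symm

theorem order_mem_of_acc (hall : ∀ g : G, orderOf g ∈ L0) (hs : acc G L0 = sol) (g : G) :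
    orderOf g ∈ sol.map Prod.fst :=
  List.mem_map.2 ⟨(orderOf g, count G (orderOf g)),
    hs ▸ mem_acc.2 ⟨hall g, count_ne_zero_iff.2 ⟨g, rfl⟩, rfl⟩, rfl⟩

theorem card_of_acc (hnd : L0.Nodup) (hall : ∀ g : G, orderOf g ∈ L0) (hs : acc G L0 = sol) :
    Nat.card G = (sol.map Prod.snd).sum := by
  rw [← hs, sum_acc, ← Nat.card_congr (Equiv.subtypeUnivEquiv (p := fun g : G => g ^ Nat.card G = 1)
    fun g => pow_card_eq_one'), card_pow_eq_sum hnd hall]
  clear hs
  induction L0 with
  | nil => rfl
  | cons d L ih =>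
    have : ((L.filter fun d => Nat.card G % d == 0).map (count G)).sum = (L.map (count G)).sum := by
      clear hnd hall ih
      induction L with
      | nil => rfl
      | cons e L ih =>
        rcases eq_or_ne (Nat.card G % e) 0 with he | he
        · simp [List.filter_cons, he, ih]
        · have hz : count G e = 0 := by
            by_contra h
            exact he (Nat.mod_eq_zero_of_dvd (dvd_card_of_order (count_ne_zero_iff.1 h)))
          simp [List.filter_cons, he, hz, ih]
    rcases eq_or_ne (Nat.card G % d) 0 with he | he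
    · simp [List.filter_cons, he, this]
    · have hz : count G d = 0 := by
        by_contra h
        exact he (Nat.mod_eq_zero_of_dvd (dvd_card_of_order (count_ne_zero_iff.1 h)))
      simp [List.filter_cons, he, hz, this]

/-- A normal subgroup contains every element of order prime to its index. -/
theorem mem_of_coprime_index {N : Subgroup G} [N.Normal] {g : G} (h : (orderOf g).Coprime N.index) :
    g ∈ N := by
  rw [← QuotientGroup.eq_one_iff, ← orderOf_eq_one_iff]
  exact Nat.eq_one_of_dvd_coprimes h (orderOf_map_dvd (QuotientGroup.mk' N) g)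
    (by rw [Subgroup.index]; exact orderOf_dvd_natCard _)

/-- Simplicity from the statistics. -/
theorem isSimpleGroup_of_counts [Nontrivial G] {n c3 c5 : ℕ} (hG : Nat.card G = n)
    (hsmall : ∀ g : G, orderOf g ≤ 5) (h3 : count G 3 = c3) (h5 : count G 5 = c5)
    (hp : ∀ d, d ∣ n → ¬ 5 ∣ d → d ≠ 1 → IsPrimePow d → d % 5 ≠ 1)
    (hbig : n < 3 * (1 + c5) ∧ n < 2 * (1 + c3 + c5)) (h52 : 5 ∣ n ∧ ¬ 25 ∣ n) : IsSimpleGroup G := by
  classical
  haveI := Fintype.ofFinite G
  haveI h5f : Fact (Nat.Prime 5) := ⟨Nat.prime_five⟩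
  refine ⟨fun N hN => ?_⟩
  by_contra hcon
  push Not at hcon
  obtain ⟨hbot, htop⟩ := hcon
  have hmul : Nat.card N * N.index = n := hG ▸ N.card_mul_index
  by_cases hd : 5 ∣ Nat.card N
  · have hndi : ¬ 5 ∣ N.index := fun h => h52.2 (hmul ▸ (show 25 = 5 * 5 from rfl) ▸ Nat.mul_dvd_mul hd h)
    have hidx : N.index ≠ 1 := fun h => htop (Subgroup.index_eq_one.1 h)
    have hidx0 : N.index ≠ 0 := Subgroup.index_ne_zero_of_finite
    have hsub : ∀ S : Finset G, (∀ g ∈ S, g ∈ N) → S.card ≤ Nat.card N := fun S hS => by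
      rw [Nat.card_eq_fintype_card, Fintype.card_subtype]
      exact Finset.card_le_card fun g hg => Finset.mem_filter.2 ⟨Finset.mem_univ g, hS g hg⟩
    have hcnt : ∀ m, (Finset.univ.filter fun g : G => orderOf g = m).card = count G m := fun m => by
      rw [count, Nat.card_eq_fintype_card, Fintype.card_subtype]
    have hmem5 : ∀ g : G, orderOf g = 5 → g ∈ N := fun g hg =>
      mem_of_coprime_index (hg ▸ (Nat.prime_five.coprime_iff_not_dvd.2 hndi))
    have hle5 : 1 + c5 ≤ Nat.card N := by
      refine le_trans ?_ (hsub (insert 1 (Finset.univ.filter fun g : G => orderOf g = 5)) fun g hg => ?_)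
      · rw [Finset.card_insert_of_notMem (by simp), hcnt, h5, add_comm]
      · rcases Finset.mem_insert.1 hg with rfl | hg
        · exact N.one_mem
        · exact hmem5 g (Finset.mem_filter.1 hg).2
    have h2i : N.index = 2 := by
      rcases lt_or_ge N.index 3 with h | h
      · omega
      · have := Nat.mul_le_mul hle5 h
        omega
    have hle35 : 1 + c3 + c5 ≤ Nat.card N := by
      refine le_trans ?_ (hsub (insert 1 ((Finset.univ.filter fun g : G => orderOf g = 3) ∪
        (Finset.univ.filter fun g : G => orderOf g = 5))) fun g hg => ?_)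
      · rw [Finset.card_insert_of_notMem (by simp),
          Finset.card_union_of_disjoint (Finset.disjoint_filter.2 fun g _ h => by omega), hcnt, hcnt, h3, h5]
        omega
      · rcases Finset.mem_insert.1 hg with rfl | hg
        · exact N.one_mem
        · rcases Finset.mem_union.1 hg with hg | hg
          · exact mem_of_coprime_index (by rw [(Finset.mem_filter.1 hg).2, h2i]; decide)
          · exact hmem5 g (Finset.mem_filter.1 hg).2
    rw [h2i] at hmul
    omega
  · have hN1 : Nat.card N ≠ 1 := fun h => hbot (Subgroup.eq_bot_of_card_eq _ h)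
    obtain ⟨p, hpp, hpN⟩ := Nat.exists_prime_and_dvd hN1
    haveI := Fact.mk hpp
    obtain ⟨P⟩ : Nonempty (Sylow p N) := inferInstance
    set Q : Subgroup G := (P : Subgroup N).map N.subtype with hQ
    have hQc : Nat.card Q = p ^ (Nat.card N).factorization p := by
      rw [hQ, Subgroup.card_map_of_injective N.subtype_injective, P.card_eq_multiplicity]
    have hsup : Subgroup.normalizer (Q : Set G) ⊔ N = ⊤ := Sylow.normalizer_sup_eq_top P
    have hidx5 : 5 ∣ Nat.card (Subgroup.normalizer (Q : Set G)) := by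
      have h1 : N.index ∣ Nat.card (Subgroup.normalizer (Q : Set G)) := by
        rw [← Subgroup.relIndex_top_right, ← hsup, Subgroup.relIndex_sup_right]
        exact Subgroup.relIndex_dvd_card _ _
      rcases Nat.prime_five.dvd_mul.1 (hmul.symm ▸ h52.1) with h | h
      · exact absurd h hd
      · exact h.trans h1
    obtain ⟨⟨g, hg⟩, hg5⟩ := exists_prime_orderOf_dvd_card' 5 hidx5
    rw [Subgroup.orderOf_mk] at hg5
    let act : MulAction (Subgroup.zpowers g) Q :=
      { smul := fun x q => ⟨(x : G) * q * (x : G)⁻¹,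
          (Subgroup.mem_normalizer_iff.1 ((Subgroup.zpowers_le.2 hg) x.2) q).1 q.2⟩
        one_smul := fun q => Subtype.ext (show (1 : G) * q * (1 : G)⁻¹ = q by simp)
        mul_smul := fun x y q => Subtype.ext (show ((x * y : Subgroup.zpowers g) : G) * q * _⁻¹ = _ by
          show _ = (x : G) * ((y : G) * q * (y : G)⁻¹) * (x : G)⁻¹
          simp [mul_assoc]) }
    have hmodeq := (IsPGroup.of_card (p := 5) (G := Subgroup.zpowers g) (n := 1)
      (by rw [Nat.card_zpowers, hg5, pow_one])).card_modEq_card_fixedPoints Q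
    have hfix : Nat.card (MulAction.fixedPoints (Subgroup.zpowers g) Q) = 1 := by
      rw [Nat.card_eq_one_iff_unique]
      refine ⟨⟨fun a b => ?_⟩, ⟨⟨1, fun x => Subtype.ext (show (x : G) * 1 * (x : G)⁻¹ = 1 by simp)⟩⟩⟩
      have key : ∀ c : MulAction.fixedPoints (Subgroup.zpowers g) Q, ((c.1 : Q) : G) = 1 := fun c => by
        have hc : g * (c.1 : G) * g⁻¹ = (c.1 : G) :=
          congrArg (Subtype.val (p := fun x => x ∈ Q)) (c.2 ⟨g, Subgroup.mem_zpowers g⟩)
        have hcomm : Commute g (c.1 : G) := mul_inv_eq_iff_eq_mul.1 hc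
        have hcN : (c.1 : G) ∈ N := by
          obtain ⟨z, -, hz⟩ := c.1.2
          exact hz ▸ z.2
        by_contra hne
        have hco : (orderOf g).Coprime (orderOf (c.1 : G)) := by
          rw [hg5, Nat.prime_five.coprime_iff_not_dvd]
          intro h
          exact hd (h.trans ((Subgroup.orderOf_mk (c.1 : G) hcN) ▸ orderOf_dvd_natCard _))
        have h1 := hcomm.orderOf_mul_eq_mul_orderOf_of_coprime hco
        have h2 := hsmall (g * (c.1 : G))
        have h3' : orderOf (c.1 : G) ≠ 1 := fun h => hne (orderOf_eq_one_iff.1 h)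
        have := orderOf_pos (c.1 : G)
        rw [h1, hg5] at h2
        omega
      exact Subtype.ext (Subtype.ext ((key a).trans (key b).symm))
    rw [hfix] at hmodeq
    have hQN : Nat.card Q ∣ Nat.card N := hQc ▸ Nat.ordProj_dvd _ _
    have hpos : 1 ≤ (Nat.card N).factorization p :=
      (hpp.dvd_iff_one_le_factorization Nat.card_pos.ne').1 hpN
    refine hp (Nat.card Q) (hQN.trans ⟨_, hmul.symm⟩) (fun h => hd (h.trans hQN)) ?_ ?_ hmodeq
    · rw [hQc]
      exact (Nat.one_lt_pow (by omega) hpp.one_lt).ne'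
    · rw [hQc]
      exact hpp.isPrimePow.pow (by omega)

/-- A group of order 12 with eight elements of order 3 and none of order above 3 is `A₄`. -/
theorem equiv_alt_four (hG : Nat.card G = 12) (hsmall : ∀ g : G, orderOf g ≤ 3) (h3 : count G 3 = 8) :
    Nonempty (G ≃* ↥(alternatingGroup (Fin 4))) := by
  classical
  haveI := Fintype.ofFinite G
  haveI : Fact (Nat.Prime 3) := ⟨Nat.prime_three⟩
  have hP3 : ∀ P : Sylow 3 G, Nat.card (P : Subgroup G) = 3 := fun P => by
    rw [P.card_eq_multiplicity, hG]; decide +kernel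
  have h8 : (Finset.univ.filter fun g : G => orderOf g = 3).card = 8 := by
    rw [← h3, count, Nat.card_eq_fintype_card, Fintype.card_subtype]
  -- every element of order 3 generates a Sylow subgroup
  have hsyl : ∀ g : G, orderOf g = 3 → ∃ P : Sylow 3 G, (P : Subgroup G) = Subgroup.zpowers g := fun g hg => by
    have hp : IsPGroup 3 (Subgroup.zpowers g) := IsPGroup.of_card (n := 1) (by rw [Nat.card_zpowers, hg, pow_one])
    obtain ⟨P, hP⟩ := hp.exists_le_sylow
    exact ⟨P, (Subgroup.eq_of_le_of_card_ge hP (by rw [hP3, Nat.card_zpowers, hg])).symm⟩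
  have hn3 : Nat.card (Sylow 3 G) = 4 := by
    obtain ⟨P⟩ : Nonempty (Sylow 3 G) := inferInstance
    have h1 : Nat.card (Sylow 3 G) ∣ 4 := by
      have := P.card_dvd_index
      have hm := (P : Subgroup G).card_mul_index
      rw [hP3, hG] at hm
      rwa [show (P : Subgroup G).index = 4 by omega] at this
    have h2 := card_sylow_modEq_one 3 G
    have h3' : Nat.card (Sylow 3 G) ≠ 1 := fun h => by
      haveI := (Nat.card_eq_one_iff_unique.1 h).1
      have hsub : (Finset.univ.filter fun g : G => orderOf g = 3) ⊆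
          Finset.univ.filter fun g : G => g ∈ (P : Subgroup G) := fun g hg => by
        obtain ⟨Q, hQ⟩ := hsyl g (Finset.mem_filter.1 hg).2
        exact Finset.mem_filter.2 ⟨Finset.mem_univ g, Subsingleton.elim Q P ▸ hQ ▸ Subgroup.mem_zpowers g⟩
      have := Finset.card_le_card hsub
      rw [h8, ← Fintype.card_subtype, ← Nat.card_eq_fintype_card, hP3] at this
      omega
    have hle := Nat.le_of_dvd (by norm_num) h1
    have hpos : 0 < Nat.card (Sylow 3 G) := Nat.card_pos
    unfold Nat.ModEq at h2
    omega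
  let e : Sylow 3 G ≃ Fin 4 := Finite.equivFinOfCardEq hn3
  let φ : G →* Equiv.Perm (Fin 4) := e.permCongrHom.toMonoidHom.comp (MulAction.toPermHom G (Sylow 3 G))
  have hinj : Function.Injective φ := by
    rw [← MonoidHom.ker_eq_bot_iff, Subgroup.eq_bot_iff_forall]
    intro g hg
    have hg' : MulAction.toPermHom G (Sylow 3 G) g = 1 := e.permCongrHom.injective (by
      rw [map_one]; exact hg)
    have hnorm : ∀ P : Sylow 3 G, g ∈ Subgroup.normalizer ((P : Subgroup G) : Set G) := fun P =>
      Sylow.smul_eq_iff_mem_normalizer.1 (congrArg (fun f : Equiv.Perm (Sylow 3 G) => f P) hg')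
    have hno3 : ∀ y : G, orderOf y = 3 → y ∉ φ.ker := fun y hy hyk => by
      have hy' : MulAction.toPermHom G (Sylow 3 G) y = 1 := e.permCongrHom.injective (by
        rw [map_one]; exact hyk)
      have hall : ∀ P : Sylow 3 G, (P : Subgroup G) = Subgroup.zpowers y := fun P => by
        have hyn : y ∈ Subgroup.normalizer ((P : Subgroup G) : Set G) :=
          Sylow.smul_eq_iff_mem_normalizer.1 (congrArg (fun f : Equiv.Perm (Sylow 3 G) => f P) hy')
        have hp : IsPGroup 3 (Subgroup.zpowers y) :=
          IsPGroup.of_card (n := 1) (by rw [Nat.card_zpowers, hy, pow_one])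
        have hle : (P : Subgroup G) ≤ (P : Subgroup G) ⊔ Subgroup.zpowers y := le_sup_left
        have hsup : IsPGroup 3 ((P : Subgroup G) ⊔ Subgroup.zpowers y : Subgroup G) :=
          hp.to_sup_of_normal_right' P.isPGroup' (Subgroup.zpowers_le.2 hyn) |> fun h => by
            rwa [sup_comm] at h
        have := P.is_maximal' hsup hle
        exact (Subgroup.eq_of_le_of_card_ge (sup_eq_left.1 this)
          (by rw [hP3, Nat.card_zpowers, hy])).symm
      have : Subsingleton (Sylow 3 G) := ⟨fun P Q => Sylow.ext ((hall P).trans (hall Q).symm)⟩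
      have := Finite.card_le_one_iff_subsingleton.2 this
      omega
    by_contra hne
    have hg3 := hsmall g
    have hgpos := orderOf_pos g
    have hg2 : orderOf g = 2 := by
      have h1 : orderOf g ≠ 1 := fun h => hne (orderOf_eq_one_iff.1 h)
      have h3' : orderOf g ≠ 3 := fun h => hno3 g h hg
      omega
    have hgg : g * g = 1 := by rw [← pow_two, ← hg2, pow_orderOf_eq_one]
    obtain ⟨x, hx⟩ := Finset.card_pos.1 (by omega : 0 < (Finset.univ.filter fun g : G => orderOf g = 3).card)
    have hx3 := (Finset.mem_filter.1 hx).2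
    obtain ⟨P, hP⟩ := hsyl x hx3
    have hconj : g * x * g⁻¹ ∈ Subgroup.zpowers x :=
      hP ▸ (Subgroup.mem_normalizer_iff.1 (hnorm P) x).1 (hP ▸ Subgroup.mem_zpowers x)
    rw [mem_zpowers_iff_mem_range_orderOf, hx3] at hconj
    obtain ⟨i, hi, hxi⟩ := Finset.mem_image.1 hconj
    have hxg : g * x * g⁻¹ * g = g * x := by group
    rcases (by rw [Finset.mem_range] at hi; omega : i = 0 ∨ i = 1 ∨ i = 2) with rfl | rfl | rfl
    · rw [pow_zero, eq_comm, mul_inv_eq_one, mul_eq_left] at hxi
      rw [hxi, orderOf_one] at hx3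
      omega
    · have hc : Commute g x := mul_inv_eq_iff_eq_mul.1 ((pow_one x).symm.trans hxi).symm
      have := hc.orderOf_mul_eq_mul_orderOf_of_coprime (by rw [hg2, hx3]; decide)
      have := hsmall (g * x)
      rw [hg2, hx3] at *
      omega
    · refine hno3 (g * (x * g * x⁻¹)) ?_ (φ.ker.mul_mem hg ((MonoidHom.normal_ker φ).conj_mem g hg x))
      have h2 : g * (x * g * x⁻¹) = x := by
        calc g * (x * g * x⁻¹) = g * x * g⁻¹ * (g * g) * x⁻¹ := by group
          _ = x := by rw [← hxi, hgg, pow_two]; group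
      rw [h2, hx3]
  have hrange : φ.range.index = 2 := by
    have h1 := φ.range.card_mul_index
    rw [← Nat.card_congr (MonoidHom.ofInjective hinj).toEquiv, hG, Nat.card_perm, Nat.card_fin,
      show Nat.factorial 4 = 24 by rfl] at h1
    omega
  exact ⟨(MonoidHom.ofInjective hinj).trans
    (MulEquiv.subgroupCongr (Equiv.Perm.eq_alternatingGroup_of_index_eq_two hrange))⟩

end CfsgLib.Characterizations.NseAlt
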