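import Cfsg.Agent.Lib.Characterizations.NseAlt.Spectrum

/-!
The statistics of element orders forced by those of the alternating groups of degree 4, 5, 6.
-/

set_option autoImplicit false
set_option maxHeartbeats 1000000
set_option maxRecDepth 100000
set_option linter.unusedSimpArgs false

universe u

namespace CfsgLib.Characterizations.NseAlt

variable {G : Type u} [Group G] [Finite G]

/-- The candidate orders above two, with options. -/
def a4L : List (ℕ × List ℕ × List ℕ) := [(3, [8], []), (4, [8], [2]), (6, [8], [2, 3]), (12, [8], [4, 6])]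

theorem a4_search : search (lastTest [8] [2, 3] [2, 3, 4, 6, 8, 9, 12, 16, 27, 32, 81, 243, 324] (12 ^ 14)) a4L [(2, 3), (1, 1)] =
    [[(3, 8), (2, 3), (1, 1)]] := by decide +kernel

theorem Hyp.a4_acc (h : Hyp G [8] 3) :
    ∃ L0 : List ℕ, L0.Nodup ∧ (∀ g : G, orderOf g ∈ L0) ∧ acc G L0 = [(3, 8), (2, 3), (1, 1)] := by
  have hdvd : ∀ g : G, orderOf g ∣ 12 := h.order_dvd (b := 9) (E := [(2, 2), (3, 1)]) (by norm_num)
    (by decide) (by decide +kernel) (by decide +kernel)
  have hdiv : ∀ m, m ∣ 12 → m ∈ [1, 2] ++ a4L.map Prod.fst ∨ opt [8] 3 m = [] := by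
    intro m hm
    rw [show 12 = 4 * 3 from by norm_num] at hm
    obtain ⟨y2, y3, hm1, h3, rfl⟩ := Nat.dvd_mul.1 hm
    have hall : ∀ y2 ∈ (4 : ℕ).divisors, ∀ y3 ∈ (3 : ℕ).divisors,
        y2 * y3 ∈ [1, 2] ++ a4L.map Prod.fst ∨ opt [8] 3 (y2 * y3) = [] := by decide +kernel
    exact hall _ (Nat.mem_divisors.2 ⟨hm1, by norm_num⟩) _ (Nat.mem_divisors.2 ⟨h3, by norm_num⟩)
  have hL : ∀ g : G, orderOf g ∈ [1, 2] ++ a4L.map Prod.fst := fun g => by
    rcases hdiv _ (hdvd g) with hmem | hnil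
    · exact hmem
    · rcases lt_or_ge (orderOf g) 2 with hlt | hge
      · have := orderOf_pos g
        simp [show orderOf g = 1 by omega]
      · have := h.mem_opt ⟨g, rfl⟩ hge
        rw [hnil] at this
        simp at this
  refine ⟨_, by decide +kernel, hL, ?_⟩
  have hcard : Nat.card G < 2 ^ 14 := by
    rw [← Nat.card_congr (Equiv.subtypeUnivEquiv (p := fun g : G => g ^ Nat.card G = 1) fun g => pow_card_eq_one'),
      card_pow_eq_sum (by decide +kernel : ([1, 2] ++ a4L.map Prod.fst).Nodup) hL]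
    refine lt_of_le_of_lt (List.sum_le_card_nsmul _ 8 fun x hx => ?_) ?_
    · obtain ⟨d, -, rfl⟩ := List.mem_map.1 hx
      rcases eq_or_ne (count G d) 0 with hd | hd
      · omega
      have := h.mem d (count_ne_zero_iff.1 hd)
      simp only [List.mem_cons, List.not_mem_nil, or_false] at this
      omega
    · rw [List.length_map, smul_eq_mul]
      refine lt_of_le_of_lt (Nat.mul_le_mul_right _ (List.length_filter_le _ _)) ?_
      decide +kernel
  have h12 : acc G [1, 2] = [(2, 3), (1, 1)] := by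
    simp [acc, List.filter_cons, count_one, h.count_two]
  have hmem := acc_mem_search (lastTest [8] [2, 3] [2, 3, 4, 6, 8, 9, 12, 16, 27, 32, 81, 243, 324] (12 ^ 14)) hL (by decide +kernel)
    (h.lastTest_acc hL (by decide +kernel) (card_dvd_pow hdvd hcard) (by decide +kernel))
    a4L [1, 2] rfl ?_ (by decide +kernel) (by decide +kernel)
  · rw [h12, a4_search, List.mem_singleton] at hmem
    exact hmem
  intro e he hne
  have hopt : ∀ e ∈ a4L, 2 ≤ e.1 ∧ ∀ c ∈ opt [8] 3 e.1, c ∈ e.2.1 := by decide +kernel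
  obtain ⟨h2, hc⟩ := hopt e he
  exact hc _ (h.mem_opt (count_ne_zero_iff.1 hne) h2)

/-- The candidate orders above two, with options. -/
def a5L : List (ℕ × List ℕ × List ℕ) := [(3, [20, 24], []), (4, [20, 24], [2]), (5, [20, 24], []), (8, [20, 24], [4]), (9, [24], [3]), (16, [24], [8]), (6, [20, 24], [2, 3]), (10, [20, 24], [2, 5]), (12, [20, 24], [4, 6]), (15, [24], [3, 5]), (18, [24], [6, 9]), (20, [24], [4, 10]), (24, [24], [8, 12]), (30, [24], [6, 10, 15]), (36, [24], [12, 18]), (45, [24], [9, 15]), (72, [24], [24, 36]), (90, [24], [18, 30, 45])]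

theorem a5_search : search (lastTest [20, 24] [2, 3, 5] [2, 3, 4, 5, 6, 8, 9, 10, 12, 15, 16, 18, 20, 24, 25, 27, 30, 32, 36, 45, 72, 81, 90, 125, 243, 324, 625, 3125] (720 ^ 14)) a5L [(2, 15), (1, 1)] =
    [[(5, 24), (3, 20), (2, 15), (1, 1)]] := by decide +kernel

theorem Hyp.a5_acc (h : Hyp G [20, 24] 15) :
    ∃ L0 : List ℕ, L0.Nodup ∧ (∀ g : G, orderOf g ∈ L0) ∧ acc G L0 = [(5, 24), (3, 20), (2, 15), (1, 1)] := by
  have hdvd : ∀ g : G, orderOf g ∣ 720 := h.order_dvd (b := 25) (E := [(2, 4), (3, 2), (5, 1)]) (by norm_num)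
    (by decide) (by decide +kernel) (by decide +kernel)
  have hdiv : ∀ m, m ∣ 720 → m ∈ [1, 2] ++ a5L.map Prod.fst ∨ opt [20, 24] 15 m = [] := by
    intro m hm
    rw [show 720 = 16 * 9 * 5 from by norm_num] at hm
    obtain ⟨y2, y5, hm1, h5, rfl⟩ := Nat.dvd_mul.1 hm
    obtain ⟨y2, y3, hm2, h3, rfl⟩ := Nat.dvd_mul.1 hm1
    have hall : ∀ y2 ∈ (16 : ℕ).divisors, ∀ y3 ∈ (9 : ℕ).divisors, ∀ y5 ∈ (5 : ℕ).divisors,
        y2 * y3 * y5 ∈ [1, 2] ++ a5L.map Prod.fst ∨ opt [20, 24] 15 (y2 * y3 * y5) = [] := by decide +kernel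
    exact hall _ (Nat.mem_divisors.2 ⟨hm2, by norm_num⟩) _ (Nat.mem_divisors.2 ⟨h3, by norm_num⟩) _ (Nat.mem_divisors.2 ⟨h5, by norm_num⟩)
  have hL : ∀ g : G, orderOf g ∈ [1, 2] ++ a5L.map Prod.fst := fun g => by
    rcases hdiv _ (hdvd g) with hmem | hnil
    · exact hmem
    · rcases lt_or_ge (orderOf g) 2 with hlt | hge
      · have := orderOf_pos g
        simp [show orderOf g = 1 by omega]
      · have := h.mem_opt ⟨g, rfl⟩ hge
        rw [hnil] at this
        simp at this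
  refine ⟨_, by decide +kernel, hL, ?_⟩
  have hcard : Nat.card G < 2 ^ 14 := by
    rw [← Nat.card_congr (Equiv.subtypeUnivEquiv (p := fun g : G => g ^ Nat.card G = 1) fun g => pow_card_eq_one'),
      card_pow_eq_sum (by decide +kernel : ([1, 2] ++ a5L.map Prod.fst).Nodup) hL]
    refine lt_of_le_of_lt (List.sum_le_card_nsmul _ 24 fun x hx => ?_) ?_
    · obtain ⟨d, -, rfl⟩ := List.mem_map.1 hx
      rcases eq_or_ne (count G d) 0 with hd | hd
      · omega
      have := h.mem d (count_ne_zero_iff.1 hd)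
      simp only [List.mem_cons, List.not_mem_nil, or_false] at this
      omega
    · rw [List.length_map, smul_eq_mul]
      refine lt_of_le_of_lt (Nat.mul_le_mul_right _ (List.length_filter_le _ _)) ?_
      decide +kernel
  have h12 : acc G [1, 2] = [(2, 15), (1, 1)] := by
    simp [acc, List.filter_cons, count_one, h.count_two]
  have hmem := acc_mem_search (lastTest [20, 24] [2, 3, 5] [2, 3, 4, 5, 6, 8, 9, 10, 12, 15, 16, 18, 20, 24, 25, 27, 30, 32, 36, 45, 72, 81, 90, 125, 243, 324, 625, 3125] (720 ^ 14)) hL (by decide +kernel)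
    (h.lastTest_acc hL (by decide +kernel) (card_dvd_pow hdvd hcard) (by decide +kernel))
    a5L [1, 2] rfl ?_ (by decide +kernel) (by decide +kernel)
  · rw [h12, a5_search, List.mem_singleton] at hmem
    exact hmem
  intro e he hne
  have hopt : ∀ e ∈ a5L, 2 ≤ e.1 ∧ ∀ c ∈ opt [20, 24] 15 e.1, c ∈ e.2.1 := by decide +kernel
  obtain ⟨h2, hc⟩ := hopt e he
  exact hc _ (h.mem_opt (count_ne_zero_iff.1 hne) h2)

/-- The candidate orders above two, with options. -/
def a6L : List (ℕ × List ℕ × List ℕ) := [(3, [80, 90, 144], []), (4, [80, 90, 144], [2]), (5, [80, 144], []), (7, [90, 144], []), (8, [80, 144], [4]), (9, [90, 144], [3]), (25, [80], [5]), (6, [80, 90, 144], [2, 3]), (10, [80, 144], [2, 5]), (12, [80, 144], [4, 6]), (14, [90, 144], [2, 7]), (15, [80, 144], [3, 5]), (18, [90, 144], [6, 9]), (20, [80, 144], [4, 10]), (21, [144], [3, 7]), (24, [80, 144], [8, 12]), (28, [144], [4, 14]), (30, [80, 144], [6, 10, 15]), (35, [144], [5, 7]), (36, [144],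 [12, 18]), (40, [80, 144], [8, 20]), (42, [144], [6, 14, 21]), (45, [144], [9, 15]), (50, [80], [10, 25]), (56, [144], [8, 28]), (60, [80, 144], [12, 20, 30]), (63, [144], [9, 21]), (70, [144], [10, 14, 35]), (72, [144], [24, 36]), (75, [80], [15, 25]), (84, [144], [12, 28, 42]), (90, [144], [18, 30, 45]), (100, [80], [20, 50]), (105, [144], [15, 21, 35]), (126, [144], [18, 42, 63]), (140, [144], [20, 28, 70]), (150, [80], [30, 50, 75]), (168, [144], [24, 56, 84]), (180, [144], [36, 60, 90]), (200, [80], [40, 100]), (210, [144], [30, 42, 70, 105]), (252, [144], [36, 84, 126]), (300, [80], [60, 100, 150]), (315, [144], [45, 63, 105]), (504, [144], [72, 168, 252]), (630, [144], [90, 126, 210, 315])]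

theorem a6_search : search (lastTest [80, 90, 144] [2, 3, 5, 7] [2, 3, 4, 5, 6, 7, 8, 9, 10, 12, 14, 15, 16, 18, 20, 21, 24, 25, 27, 28, 30, 32, 35, 36, 40, 42, 45, 49, 50, 56, 60, 63, 70, 72, 75, 81, 84, 90, 100, 105, 125, 126, 140, 150, 168, 180, 200, 210, 243, 252, 300, 315, 324, 343, 504, 625, 630, 2401, 3125] (12600 ^ 14)) a6L [(2, 45), (1, 1)] =
    [[(5, 144), (4, 90), (3, 80), (2, 45), (1, 1)]] := by decide +kernel

theorem Hyp.a6_acc (h : Hyp G [80, 90, 144] 45) :
    ∃ L0 : List ℕ, L0.Nodup ∧ (∀ g : G, orderOf g ∈ L0) ∧ acc G L0 = [(5, 144), (4, 90), (3, 80), (2, 45), (1, 1)] := by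
  have hdvd : ∀ g : G, orderOf g ∣ 12600 := h.order_dvd (b := 145) (E := [(2, 3), (3, 2), (5, 2), (7, 1)]) (by norm_num)
    (by decide) (by decide +kernel) (by decide +kernel)
  have hdiv : ∀ m, m ∣ 12600 → m ∈ [1, 2] ++ a6L.map Prod.fst ∨ opt [80, 90, 144] 45 m = [] := by
    intro m hm
    rw [show 12600 = 8 * 9 * 25 * 7 from by norm_num] at hm
    obtain ⟨y2, y7, hm1, h7, rfl⟩ := Nat.dvd_mul.1 hm
    obtain ⟨y2, y5, hm2, h5, rfl⟩ := Nat.dvd_mul.1 hm1
    obtain ⟨y2, y3, hm3, h3, rfl⟩ := Nat.dvd_mul.1 hm2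
    have hall : ∀ y2 ∈ (8 : ℕ).divisors, ∀ y3 ∈ (9 : ℕ).divisors, ∀ y5 ∈ (25 : ℕ).divisors, ∀ y7 ∈ (7 : ℕ).divisors,
        y2 * y3 * y5 * y7 ∈ [1, 2] ++ a6L.map Prod.fst ∨ opt [80, 90, 144] 45 (y2 * y3 * y5 * y7) = [] := by decide +kernel
    exact hall _ (Nat.mem_divisors.2 ⟨hm3, by norm_num⟩) _ (Nat.mem_divisors.2 ⟨h3, by norm_num⟩) _ (Nat.mem_divisors.2 ⟨h5, by norm_num⟩) _ (Nat.mem_divisors.2 ⟨h7, by norm_num⟩)
  have hL : ∀ g : G, orderOf g ∈ [1, 2] ++ a6L.map Prod.fst := fun g => by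
    rcases hdiv _ (hdvd g) with hmem | hnil
    · exact hmem
    · rcases lt_or_ge (orderOf g) 2 with hlt | hge
      · have := orderOf_pos g
        simp [show orderOf g = 1 by omega]
      · have := h.mem_opt ⟨g, rfl⟩ hge
        rw [hnil] at this
        simp at this
  refine ⟨_, by decide +kernel, hL, ?_⟩
  have hcard : Nat.card G < 2 ^ 14 := by
    rw [← Nat.card_congr (Equiv.subtypeUnivEquiv (p := fun g : G => g ^ Nat.card G = 1) fun g => pow_card_eq_one'),
      card_pow_eq_sum (by decide +kernel : ([1, 2] ++ a6L.map Prod.fst).Nodup) hL]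
    refine lt_of_le_of_lt (List.sum_le_card_nsmul _ 144 fun x hx => ?_) ?_
    · obtain ⟨d, -, rfl⟩ := List.mem_map.1 hx
      rcases eq_or_ne (count G d) 0 with hd | hd
      · omega
      have := h.mem d (count_ne_zero_iff.1 hd)
      simp only [List.mem_cons, List.not_mem_nil, or_false] at this
      omega
    · rw [List.length_map, smul_eq_mul]
      refine lt_of_le_of_lt (Nat.mul_le_mul_right _ (List.length_filter_le _ _)) ?_
      decide +kernel
  have h12 : acc G [1, 2] = [(2, 45), (1, 1)] := by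
    simp [acc, List.filter_cons, count_one, h.count_two]
  have hmem := acc_mem_search (lastTest [80, 90, 144] [2, 3, 5, 7] [2, 3, 4, 5, 6, 7, 8, 9, 10, 12, 14, 15, 16, 18, 20, 21, 24, 25, 27, 28, 30, 32, 35, 36, 40, 42, 45, 49, 50, 56, 60, 63, 70, 72, 75, 81, 84, 90, 100, 105, 125, 126, 140, 150, 168, 180, 200, 210, 243, 252, 300, 315, 324, 343, 504, 625, 630, 2401, 3125] (12600 ^ 14)) hL (by decide +kernel)
    (h.lastTest_acc hL (by decide +kernel) (card_dvd_pow hdvd hcard) (by decide +kernel))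
    a6L [1, 2] rfl ?_ (by decide +kernel) (by decide +kernel)
  · rw [h12, a6_search, List.mem_singleton] at hmem
    exact hmem
  intro e he hne
  have hopt : ∀ e ∈ a6L, 2 ≤ e.1 ∧ ∀ c ∈ opt [80, 90, 144] 45 e.1, c ∈ e.2.1 := by decide +kernel
  obtain ⟨h2, hc⟩ := hopt e he
  exact hc _ (h.mem_opt (count_ne_zero_iff.1 hne) h2)

end CfsgLib.Characterizations.NseAlt
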