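import Mathlib
import Cfsg.Agent.Lib.Frobenius.Divisibility

/-!
Counting the elements of each order: a finite search for the possible element order statistics.
-/

set_option autoImplicit false
set_option linter.unusedSectionVars false
set_option linter.unusedSimpArgs false

universe u

namespace CfsgLib.Characterizations.NseAlt

/-- The number of elements of order `m`. -/
noncomputable def count (G : Type u) [Group G] (m : ℕ) : ℕ := Nat.card {g : G // orderOf g = m}

/-- Sum of the recorded counts at the divisors of `n`. -/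
def sumDvd (a : List (ℕ × ℕ)) (n : ℕ) : ℕ :=
  a.foldr (fun x s => cond (n % x.1 == 0) (x.2 + s) s) 0

/-- An order is recorded. -/
def has (a : List (ℕ × ℕ)) (d : ℕ) : Bool := a.any (fun x => x.1 == d)

/-- All admissible statistics. -/
def search (fin : List (ℕ × ℕ) → Bool) : List (ℕ × List ℕ × List ℕ) → List (ℕ × ℕ) → List (List (ℕ × ℕ))
  | [], a => cond (fin a) [a] []
  | (m, os, ps) :: r, a => search fin r a ++ cond (ps.all (has a))
      ((os.filter (fun c => (sumDvd a m + c) % m == 0)).flatMap fun c => search fin r ((m, c) :: a)) []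

/-- The last test. -/
def lastTest (cs P T : List ℕ) (B : ℕ) (a : List (ℕ × ℕ)) : Bool :=
  let N := (a.map Prod.snd).sum
  cs.all (fun c => a.any (fun x => x.2 == c)) && a.all (fun x => N % x.1 == 0) &&
    (P.all fun p => !(N % p == 0) || has a p) && (B % N == 0) &&
    (T.all fun n => !(N % n == 0) || sumDvd a n % n == 0)

/-- Possible counts at an order at least three. -/
def opt (cs : List ℕ) (inv m : ℕ) : List ℕ :=
  if m = 2 then [inv] else cs.filter (fun c => c % Nat.totient m == 0)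

/-- Possible numbers of solutions of `x ^ p ^ j = 1`. -/
def tots (cs : List ℕ) (inv p : ℕ) : ℕ → List ℕ
  | 0 => [1]
  | j + 1 => (tots cs inv p j).flatMap fun t =>
      ((opt cs inv (p ^ (j + 1))).map (t + ·)).filter (fun s => s % p ^ (j + 1) == 0)

variable {G : Type u} [Group G] [Finite G]

theorem count_one : count G 1 = 1 := by
  unfold count
  rw [Nat.card_congr (Equiv.subtypeEquivRight fun g => orderOf_eq_one_iff)]
  simp

theorem count_ne_zero_iff {m : ℕ} : count G m ≠ 0 ↔ ∃ g : G, orderOf g = m := by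
  rw [count, Nat.card_ne_zero]
  exact ⟨fun ⟨⟨g, hg⟩, _⟩ => ⟨g, hg⟩, fun ⟨g, hg⟩ => ⟨⟨g, hg⟩, inferInstance⟩⟩

theorem order_of_dvd {m d : ℕ} (hm : ∃ g : G, orderOf g = m) (hd : d ∣ m) : ∃ g : G, orderOf g = d := by
  obtain ⟨g, rfl⟩ := hm
  exact ⟨g ^ (orderOf g / d), orderOf_pow_orderOf_div (orderOf_pos g).ne' hd⟩

theorem dvd_card_of_order {m : ℕ} (hm : ∃ g : G, orderOf g = m) : m ∣ Nat.card G := by
  obtain ⟨g, rfl⟩ := hm
  exact orderOf_dvd_natCard g

theorem card_pow_eq_sum {L : List ℕ} (hL : L.Nodup) (hall : ∀ g : G, orderOf g ∈ L) (n : ℕ) :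
    Nat.card {g : G // g ^ n = 1} = ((L.filter (fun d => n % d == 0)).map (count G)).sum := by
  classical
  haveI := Fintype.ofFinite G
  rw [← List.sum_toFinset _ (hL.filter _), Nat.card_eq_fintype_card, Fintype.card_subtype]
  have hmap : ((Finset.univ.filter fun g : G => g ^ n = 1) : Set G).MapsTo orderOf
      ((L.filter (fun d => n % d == 0)).toFinset : Set ℕ) := fun g hg => by
    simp only [Finset.coe_filter, Finset.mem_univ, true_and, Set.mem_setOf_eq] at hg
    simp only [List.coe_toFinset, List.mem_filter, Set.mem_setOf_eq, beq_iff_eq]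
    exact ⟨hall g, Nat.dvd_iff_mod_eq_zero.1 (orderOf_dvd_of_pow_eq_one hg)⟩
  rw [Finset.card_eq_sum_card_fiberwise hmap]
  refine Finset.sum_congr rfl fun d hd => ?_
  simp only [List.mem_toFinset, List.mem_filter, beq_iff_eq] at hd
  rw [count, Nat.card_eq_fintype_card, Fintype.card_subtype, Finset.filter_filter]
  refine congrArg Finset.card (Finset.filter_congr fun g _ => ⟨fun h => h.2, fun h => ⟨?_, h⟩⟩)
  exact orderOf_dvd_iff_pow_eq_one.1 (h ▸ Nat.dvd_of_mod_eq_zero hd.2)

theorem card_prime_pow_succ {p : ℕ} (hp : p.Prime) (j : ℕ) :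
    Nat.card {g : G // g ^ p ^ (j + 1) = 1} = Nat.card {g : G // g ^ p ^ j = 1} + count G (p ^ (j + 1)) := by
  classical
  haveI := Fintype.ofFinite G
  rw [count, Nat.card_eq_fintype_card, Nat.card_eq_fintype_card, Nat.card_eq_fintype_card]
  rw [← Fintype.card_subtype_or_disjoint]
  · refine Fintype.card_congr (Equiv.subtypeEquivRight fun g => ?_)
    rw [← orderOf_dvd_iff_pow_eq_one, ← orderOf_dvd_iff_pow_eq_one]
    constructor
    · intro h
      obtain ⟨i, hi, e⟩ := (Nat.dvd_prime_pow hp).1 h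
      rcases hi.lt_or_eq with hlt | rfl
      · exact Or.inl (e ▸ pow_dvd_pow p (Nat.lt_succ_iff.1 hlt))
      · exact Or.inr e
    · rintro (h | h)
      · exact h.trans (pow_dvd_pow p j.le_succ)
      · exact h ▸ dvd_rfl
  · rw [Pi.disjoint_iff]
    intro g
    simp only [Prop.disjoint_iff, not_and]
    intro h1 h2
    rw [← orderOf_dvd_iff_pow_eq_one, h2] at h1
    exact absurd ((Nat.pow_dvd_pow_iff_le_right hp.one_lt).1 h1) (by omega)

/-- The hypothesis on the set of counts. -/
structure Hyp (G : Type u) [Group G] (cs : List ℕ) (inv : ℕ) : Prop where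
  mem : ∀ m, (∃ g : G, orderOf g = m) → count G m ∈ 1 :: inv :: cs
  inv_mem : ∃ m, (∃ g : G, orderOf g = m) ∧ count G m = inv
  cs_mem : ∀ c ∈ cs, ∃ m, (∃ g : G, orderOf g = m) ∧ count G m = c
  odd_inv : inv % 2 = 1
  inv_ne : inv ≠ 1

variable {cs : List ℕ} {inv : ℕ}

theorem Hyp.mem_cs (h : Hyp G cs inv) {m : ℕ} (hm : ∃ g : G, orderOf g = m) (h3 : 3 ≤ m) :
    count G m ∈ cs ∧ m.totient ∣ count G m := by
  have h1 : m.totient ∣ count G m := Frobenius.Divisibility.totient_dvd_card m
  have h2 : 2 ∣ count G m := (Nat.totient_even (by omega)).two_dvd.trans h1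
  refine ⟨?_, h1⟩
  have := h.mem m hm
  rcases List.mem_cons.1 this with e | e
  · omega
  rcases List.mem_cons.1 e with e | e
  · have := h.odd_inv; omega
  · exact e

theorem Hyp.count_two (h : Hyp G cs inv) : count G 2 = inv := by
  obtain ⟨m, hm, hc⟩ := h.inv_mem
  have h1 : m.totient ∣ count G m := Frobenius.Divisibility.totient_dvd_card m
  rcases lt_or_ge m 3 with hlt | hge
  · interval_cases m
    · obtain ⟨g, hg⟩ := hm; exact absurd hg (orderOf_pos g).ne'
    · rw [count_one] at hc; exact absurd hc.symm h.inv_ne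
    · exact hc
  · have h2 : 2 ∣ count G m := (Nat.totient_even (by omega)).two_dvd.trans h1
    have := h.odd_inv
    omega

theorem Hyp.mem_opt (h : Hyp G cs inv) {m : ℕ} (hm : ∃ g : G, orderOf g = m) (h2 : 2 ≤ m) :
    count G m ∈ opt cs inv m := by
  unfold opt
  split_ifs with he
  · subst he; rw [h.count_two]; exact List.mem_singleton_self _
  · obtain ⟨h1, h2⟩ := h.mem_cs hm (by omega)
    exact List.mem_filter.2 ⟨h1, by simpa [beq_iff_eq] using Nat.mod_eq_zero_of_dvd h2⟩

theorem Hyp.mem_tots (h : Hyp G cs inv) {p : ℕ} (hp : p.Prime) :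
    ∀ j, (∃ g : G, orderOf g = p ^ j) → Nat.card {g : G // g ^ p ^ j = 1} ∈ tots cs inv p j
  | 0, _ => by simp [tots]
  | j + 1, hg => by
    rw [tots, List.mem_flatMap]
    refine ⟨_, h.mem_tots hp j (order_of_dvd hg (pow_dvd_pow p j.le_succ)), ?_⟩
    rw [List.mem_filter, List.mem_map]
    refine ⟨⟨count G (p ^ (j + 1)), h.mem_opt hg ?_, (card_prime_pow_succ hp j).symm⟩, ?_⟩
    · exact hp.two_le.trans (Nat.le_self_pow (by omega) p)
    · simpa [beq_iff_eq] using Nat.mod_eq_zero_of_dvd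
        (Frobenius.Divisibility.dvd_card_pow_eq_one (dvd_card_of_order hg))

/-- Every order divides `B`. -/
theorem Hyp.order_dvd (h : Hyp G cs inv) {b : ℕ} {E : List (ℕ × ℕ)} {B : ℕ} (hb2 : 2 ≤ b) (hb : ∀ c ∈ cs, c < b)
    (hsmall : ∀ p < b + 1, p.Prime → tots cs inv p 1 = [] ∨ ∃ e ∈ E, e.1 = p)
    (hE : ∀ e ∈ E, tots cs inv e.1 (e.2 + 1) = [] ∧ e.1 ^ e.2 ∣ B) (g : G) : orderOf g ∣ B := by
  refine (Nat.dvd_iff_prime_pow_dvd_dvd _ _).2 fun p k hp hpk => ?_
  rcases k.eq_zero_or_pos with rfl | hk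
  · simp
  have hord := order_of_dvd ⟨g, rfl⟩ hpk
  have hp1 : ∃ x : G, orderOf x = p ^ 1 := order_of_dvd hord (pow_dvd_pow p hk)
  have hpb : p < b + 1 := by
    rcases hp.two_le.lt_or_eq with h3 | h2
    · rw [pow_one] at hp1
      obtain ⟨hc, hd⟩ := h.mem_cs hp1 h3
      rw [Nat.totient_prime hp] at hd
      have := Nat.le_of_dvd (Nat.pos_of_ne_zero (count_ne_zero_iff.2 hp1)) hd
      have := hb _ hc
      omega
    · omega
  obtain ⟨e, he, rfl⟩ : ∃ e ∈ E, e.1 = p := by
    refine (hsmall p hpb hp).resolve_left fun hnil => ?_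
    have := h.mem_tots hp 1 hp1
    rw [hnil] at this
    simp at this
  obtain ⟨hnil, hdvd⟩ := hE e he
  refine (pow_dvd_pow _ ?_).trans hdvd
  by_contra hlt
  have := h.mem_tots hp _ (order_of_dvd hord (pow_dvd_pow e.1 (show e.2 + 1 ≤ k by omega)))
  rw [hnil] at this
  simp at this

/-- The record of the orders in `P`. -/
noncomputable def acc (G : Type u) [Group G] (P : List ℕ) : List (ℕ × ℕ) :=
  ((P.filter (fun d => count G d != 0)).map (fun d => (d, count G d))).reverse

theorem sumDvd_cons (x : ℕ × ℕ) (a : List (ℕ × ℕ)) (n : ℕ) :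
    sumDvd (x :: a) n = (if n % x.1 = 0 then x.2 else 0) + sumDvd a n := by
  show cond (n % x.1 == 0) (x.2 + sumDvd a n) (sumDvd a n) = _
  by_cases h : n % x.1 = 0
  · simp [h]
  · rw [beq_false_of_ne h, cond_false, if_neg h, Nat.zero_add]

theorem sumDvd_eq_sum (a : List (ℕ × ℕ)) (n : ℕ) :
    sumDvd a n = (a.map fun x => if n % x.1 = 0 then x.2 else 0).sum := by
  induction a with
  | nil => rfl
  | cons x a ih => rw [sumDvd_cons, ih, List.map_cons, List.sum_cons]

theorem sumDvd_acc (P : List ℕ) (n : ℕ) :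
    sumDvd (acc G P) n = ((P.filter (fun d => n % d == 0)).map (count G)).sum := by
  rw [sumDvd_eq_sum, acc, List.map_reverse, List.sum_reverse, List.map_map]
  induction P with
  | nil => rfl
  | cons d P ih =>
    rcases eq_or_ne (count G d) 0 with hc | hc <;> rcases eq_or_ne (n % d) 0 with hd | hd <;>
      simp_all [List.filter_cons]

theorem sum_acc (P : List ℕ) : ((acc G P).map Prod.snd).sum = (P.map (count G)).sum := by
  rw [acc, List.map_reverse, List.sum_reverse, List.map_map]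
  induction P with
  | nil => rfl
  | cons d P ih =>
    rcases eq_or_ne (count G d) 0 with hc | hc <;> simp_all [List.filter_cons]

theorem mem_acc {P : List ℕ} {x : ℕ × ℕ} :
    x ∈ acc G P ↔ x.1 ∈ P ∧ count G x.1 ≠ 0 ∧ x.2 = count G x.1 := by
  simp only [acc, List.mem_reverse, List.mem_map, List.mem_filter, bne_iff_ne, ne_eq]
  constructor
  · rintro ⟨d, ⟨h1, h2⟩, rfl⟩
    exact ⟨h1, h2, rfl⟩
  · rintro ⟨h1, h2, h3⟩
    exact ⟨x.1, ⟨h1, h2⟩, Prod.ext rfl h3.symm⟩

theorem has_acc {P : List ℕ} {d : ℕ} (hd : d ∈ P) (hc : count G d ≠ 0) : has (acc G P) d = true := by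
  rw [has, List.any_eq_true]
  exact ⟨(d, count G d), mem_acc.2 ⟨hd, hc, rfl⟩, by simp⟩

theorem acc_append (P : List ℕ) (m : ℕ) : acc G (P ++ [m]) =
    if count G m = 0 then acc G P else (m, count G m) :: acc G P := by
  rcases eq_or_ne (count G m) 0 with hc | hc <;> simp [acc, List.filter_append, hc]

/-- The search finds the statistics of `G`. -/
theorem acc_mem_search (fin : List (ℕ × ℕ) → Bool) {L0 : List ℕ} (hall : ∀ g : G, orderOf g ∈ L0)
    (hnd : L0.Nodup) (hlast : fin (acc G L0) = true) :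
    ∀ (r : List (ℕ × List ℕ × List ℕ)) (P : List ℕ), L0 = P ++ r.map Prod.fst →
      (∀ e ∈ r, count G e.1 ≠ 0 → count G e.1 ∈ e.2.1) →
      (∀ e ∈ r, ∀ q ∈ e.2.2, q ∣ e.1 ∧ q ≠ e.1) →
      ((r.map Prod.fst).Pairwise fun x y => ¬ y ∣ x) →
      acc G L0 ∈ search fin r (acc G P)
  | [], P, hP, _, _, _ => by
    rw [List.map_nil, List.append_nil] at hP
    subst hP
    simp [search, hlast]
  | (m, os, ps) :: r, P, hP, hopt, hps, hpw => by
    rw [List.map_cons, List.pairwise_cons] at hpw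
    have hP' : L0 = (P ++ [m]) ++ r.map Prod.fst := by rw [hP]; simp
    have ih := acc_mem_search fin hall hnd hlast r (P ++ [m]) hP'
      (fun e he => hopt e (List.mem_cons_of_mem _ he)) (fun e he => hps e (List.mem_cons_of_mem _ he))
      hpw.2
    rw [acc_append] at ih
    rw [search, List.mem_append]
    split_ifs at ih with hc
    · exact Or.inl ih
    refine Or.inr ?_
    have hearlier : ∀ d, d ∣ m → d ≠ m → count G d ≠ 0 → d ∈ P := fun d hdm hne hd => by
      obtain ⟨x, rfl⟩ := count_ne_zero_iff.1 hd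
      have h1 := hall x
      rw [hP, List.map_cons, List.mem_append, List.mem_cons] at h1
      rcases h1 with h1 | h1 | h1
      · exact h1
      · exact absurd h1 hne
      · exact absurd hdm (hpw.1 _ h1)
    have hallps : ps.all (has (acc G P)) = true := by
      rw [List.all_eq_true]
      intro q hq
      obtain ⟨hqm, hne⟩ := hps _ (List.mem_cons_self ..) q hq
      have hqc : count G q ≠ 0 := count_ne_zero_iff.2 (order_of_dvd (count_ne_zero_iff.1 hc) hqm)
      exact has_acc (hearlier q hqm hne hqc) hqc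
    rw [hallps, cond_true, List.mem_flatMap]
    refine ⟨count G m, List.mem_filter.2 ⟨hopt _ (List.mem_cons_self ..) hc, ?_⟩, ih⟩
    have hfr := Frobenius.Divisibility.dvd_card_pow_eq_one (dvd_card_of_order (count_ne_zero_iff.1 hc))
    rw [card_pow_eq_sum hnd hall, hP', List.filter_append, List.map_append, List.sum_append] at hfr
    have hz : ((List.filter (fun d => m % d == 0) (r.map Prod.fst)).map (count G)).sum = 0 := by
      rw [List.filter_eq_nil_iff.2 ?_]
      · rfl
      intro y hy hyd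
      exact hpw.1 y hy (Nat.dvd_of_mod_eq_zero (by simpa using hyd))
    rw [hz, Nat.add_zero, ← sumDvd_acc, acc_append, if_neg hc, sumDvd_cons] at hfr
    simp only [Nat.mod_self, if_true] at hfr
    rw [beq_iff_eq, Nat.add_comm]
    exact Nat.mod_eq_zero_of_dvd hfr

/-- The final test holds. -/
theorem Hyp.lastTest_acc (h : Hyp G cs inv) {L0 : List ℕ} (hall : ∀ g : G, orderOf g ∈ L0)
    (hnd : L0.Nodup) {P T : List ℕ} {B : ℕ} (hB : Nat.card G ∣ B) (hP : ∀ p ∈ P, p.Prime) :
    lastTest cs P T B (acc G L0) = true := by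
  have hN : ((acc G L0).map Prod.snd).sum = Nat.card G := by
    have hc := card_pow_eq_sum hnd hall (Nat.card G)
    rw [Nat.card_congr (Equiv.subtypeUnivEquiv fun g : G => pow_card_eq_one'),
      ← sumDvd_acc, sumDvd_eq_sum] at hc
    rw [hc]
    refine congrArg List.sum (List.map_congr_left fun x hx => ?_)
    obtain ⟨-, hx0, hx2⟩ := mem_acc.1 hx
    rw [if_pos (Nat.mod_eq_zero_of_dvd (dvd_card_of_order (count_ne_zero_iff.1 hx0)))]
  simp only [lastTest, hN, Bool.and_eq_true, List.all_eq_true, List.any_eq_true, beq_iff_eq,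
    Bool.or_eq_true, Bool.not_eq_true', beq_eq_false_iff_ne, ne_eq]
  refine ⟨⟨⟨⟨fun c hc => ?_, fun x hx => ?_⟩, fun p hp => ?_⟩, Nat.mod_eq_zero_of_dvd hB⟩, fun n _ => ?_⟩
  · obtain ⟨m, ⟨g, rfl⟩, hcm⟩ := h.cs_mem c hc
    exact ⟨(orderOf g, c), mem_acc.2 ⟨hall g, count_ne_zero_iff.2 ⟨g, rfl⟩, hcm.symm⟩, rfl⟩
  · exact Nat.mod_eq_zero_of_dvd (dvd_card_of_order (count_ne_zero_iff.1 (mem_acc.1 hx).2.1))
  · rcases eq_or_ne (Nat.card G % p) 0 with e | e
    · refine Or.inr ?_
      haveI := Fact.mk (hP p hp)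
      obtain ⟨g, hg⟩ := exists_prime_orderOf_dvd_card' p (Nat.dvd_of_mod_eq_zero e)
      exact has_acc (hg ▸ hall g) (count_ne_zero_iff.2 ⟨g, hg⟩)
    · exact Or.inl e
  · rcases eq_or_ne (Nat.card G % n) 0 with e | e
    · refine Or.inr (Nat.mod_eq_zero_of_dvd ?_)
      rw [sumDvd_acc, ← card_pow_eq_sum hnd hall]
      exact Frobenius.Divisibility.dvd_card_pow_eq_one (Nat.dvd_of_mod_eq_zero e)
    · exact Or.inl e

/-- The group order divides a power of the product of the primes. -/
theorem card_dvd_pow {b e : ℕ} (hord : ∀ g : G, orderOf g ∣ b) (he : Nat.card G < 2 ^ e) :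
    Nat.card G ∣ b ^ e := by
  refine (Nat.dvd_iff_prime_pow_dvd_dvd _ _).2 fun p k hp hpk => ?_
  rcases k.eq_zero_or_pos with rfl | hk
  · simp
  haveI := Fact.mk hp
  obtain ⟨g, hg⟩ := exists_prime_orderOf_dvd_card' p ((dvd_pow_self p hk.ne').trans hpk)
  have h1 := hord g
  rw [hg] at h1
  refine (pow_dvd_pow p ?_).trans (pow_dvd_pow_of_dvd h1 e)
  by_contra hlt
  have h2 : 2 ^ e ≤ p ^ k := (Nat.pow_le_pow_left hp.two_le e).trans
    (Nat.pow_le_pow_right hp.pos (by omega))
  have := Nat.le_of_dvd Nat.card_pos hpk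
  omega

end CfsgLib.Characterizations.NseAlt
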